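import Groth.Prelude.Def_RDer
import Groth.Prelude.Def_RDerDelta
import Mathlib

/-!
The horseshoe lemma: injective resolutions of short exact sequences (`RDer.SESRes`).
-/

universe v u v' u'

open CategoryTheory CategoryTheory.Limits HomologicalComplex

set_option linter.unusedSectionVars false
set_option linter.style.haveILetI false

noncomputable section

namespace Groth.RDerLib

variable {C : Type u} [Category.{v} C] [Abelian C] (S : ShortComplex C) (hS : S.ShortExact)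
  (I₁ : InjectiveResolution S.X₁) (I₃ : InjectiveResolution S.X₃)

include hS

omit hS in
/-- The shifted truncation `n ↦ I₁ⁿ⁺¹` with differential `-d`. -/
def shiftCx : CochainComplex C ℕ :=
  CochainComplex.of (fun n => I₁.cocomplex.X (n + 1))
    (fun n => -I₁.cocomplex.d (n + 1) (n + 2)) (fun n => by simp)

omit hS in
instance (n : ℕ) : Injective ((shiftCx S I₁).X n) :=
  inferInstanceAs (Injective (I₁.cocomplex.X (n + 1)))

omit hS in
/-- The augmentation in degree `0`, with plain source. -/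
abbrev ι₀ {Z : C} (I : InjectiveResolution Z) : Z ⟶ I.cocomplex.X 0 := I.ι.f 0

omit hS in
theorem shiftCx_d (n : ℕ) : (shiftCx S I₁).d n (n + 1) = -I₁.cocomplex.d (n + 1) (n + 2) :=
  CochainComplex.of_d (fun n => I₁.cocomplex.X (n + 1)) (fun n => -I₁.cocomplex.d (n + 1) (n + 2)) n

omit hS in
instance {Z : C} (I : InjectiveResolution Z) : Mono (ι₀ I) := RDer.res_mono I.cocomplex I.ι

omit hS in
theorem ι_d {Z : C} (I : InjectiveResolution Z) : ι₀ I ≫ I.cocomplex.d 0 1 = 0 :=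
  RDer.res_ι_d I.cocomplex I.ι

/-- An extension of the augmentation of `I₁` to `S.X₂`. -/
def β : S.X₂ ⟶ I₁.cocomplex.X 0 :=
  haveI := hS.mono_f
  Injective.factorThru (ι₀ I₁) S.f

theorem f_β : S.f ≫ β S hS I₁ = ι₀ I₁ :=
  haveI := hS.mono_f
  Injective.comp_factorThru _ _

theorem f_β_d : S.f ≫ β S hS I₁ ≫ I₁.cocomplex.d 0 1 = 0 := by
  rw [← Category.assoc, f_β]
  exact ι_d I₁

/-- The obstruction class in degree `0`. -/
def γ : S.X₃ ⟶ I₁.cocomplex.X 1 :=
  haveI := hS.epi_g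
  hS.gIsCokernel.desc (CokernelCofork.ofπ (β S hS I₁ ≫ I₁.cocomplex.d 0 1) (f_β_d S hS I₁))

theorem g_γ : S.g ≫ γ S hS I₁ = β S hS I₁ ≫ I₁.cocomplex.d 0 1 :=
  haveI := hS.epi_g
  Cofork.IsColimit.π_desc hS.gIsCokernel

theorem γ_d : γ S hS I₁ ≫ I₁.cocomplex.d 1 2 = 0 := by
  haveI := hS.epi_g
  rw [← cancel_epi S.g, ← Category.assoc, g_γ, Category.assoc, HomologicalComplex.d_comp_d,
    comp_zero, comp_zero]

/-- The augmentation of the shifted complex. -/
def η : (CochainComplex.single₀ C).obj S.X₃ ⟶ shiftCx S I₁ :=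
  (CochainComplex.fromSingle₀Equiv _ _).symm ⟨-γ S hS I₁, by
    rw [shiftCx_d]
    refine (Preadditive.neg_comp _ _).trans ?_
    refine (congrArg Neg.neg (Preadditive.comp_neg _ _)).trans ?_
    exact (neg_neg _).trans (γ_d S hS I₁)⟩

/-- The twisting cochain. -/
def twist : I₃.cocomplex ⟶ shiftCx S I₁ :=
  RDer.descToInjectives (𝟙 S.X₃) I₃.cocomplex I₃.ι (shiftCx S I₁) (η S hS I₁)

/-- Components of the twisting cochain. -/
def τ (n : ℕ) : I₃.cocomplex.X n ⟶ I₁.cocomplex.X (n + 1) := (twist S hS I₁ I₃).f n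

theorem τ_comm (n : ℕ) :
    τ S hS I₁ I₃ n ≫ I₁.cocomplex.d (n + 1) (n + 2) +
      I₃.cocomplex.d n (n + 1) ≫ τ S hS I₁ I₃ (n + 1) = 0 := by
  have h := (twist S hS I₁ I₃).comm n (n + 1)
  rw [shiftCx_d] at h
  rw [add_eq_zero_iff_eq_neg']
  exact h.symm.trans (Preadditive.comp_neg _ _)

theorem ι_τ : (ι₀ I₃) ≫ τ S hS I₁ I₃ 0 = -γ S hS I₁ := by
  have h := RDer.ι_descToInjectives_f_zero (𝟙 S.X₃) I₃.cocomplex I₃.ι (shiftCx S I₁) (η S hS I₁)
  refine h.trans ((Category.id_comp _).trans ?_)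
  exact CochainComplex.fromSingle₀Equiv_symm_apply_f_zero (C := shiftCx S I₁) _ _

/-- Objects of the middle resolution. -/
abbrev midX (n : ℕ) : C := I₁.cocomplex.X n ⊞ I₃.cocomplex.X n

/-- Differential of the middle resolution. -/
def midD (n : ℕ) : midX S I₁ I₃ n ⟶ midX S I₁ I₃ (n + 1) :=
  biprod.desc (I₁.cocomplex.d n (n + 1) ≫ biprod.inl)
    (τ S hS I₁ I₃ n ≫ biprod.inl + I₃.cocomplex.d n (n + 1) ≫ biprod.inr)

theorem inl_midD (n : ℕ) :
    biprod.inl ≫ midD S hS I₁ I₃ n = I₁.cocomplex.d n (n + 1) ≫ biprod.inl :=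
  biprod.inl_desc _ _

theorem inr_midD (n : ℕ) : biprod.inr ≫ midD S hS I₁ I₃ n =
    τ S hS I₁ I₃ n ≫ biprod.inl + I₃.cocomplex.d n (n + 1) ≫ biprod.inr :=
  biprod.inr_desc _ _

theorem midD_snd (n : ℕ) :
    midD S hS I₁ I₃ n ≫ biprod.snd = biprod.snd ≫ I₃.cocomplex.d n (n + 1) := by
  apply biprod.hom_ext' <;> simp [midD]

theorem midD_fst (n : ℕ) : midD S hS I₁ I₃ n ≫ biprod.fst =
    biprod.fst ≫ I₁.cocomplex.d n (n + 1) + biprod.snd ≫ τ S hS I₁ I₃ n := by
  apply biprod.hom_ext' <;> simp [midD]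

theorem midD_midD (n : ℕ) : midD S hS I₁ I₃ n ≫ midD S hS I₁ I₃ (n + 1) = 0 := by
  have h := τ_comm S hS I₁ I₃ n
  apply biprod.hom_ext'
  · rw [comp_zero, ← Category.assoc, inl_midD, Category.assoc, inl_midD, ← Category.assoc,
      HomologicalComplex.d_comp_d, zero_comp]
  · rw [comp_zero, ← Category.assoc, inr_midD, Preadditive.add_comp, Category.assoc, inl_midD,
      Category.assoc, inr_midD, Preadditive.comp_add, ← Category.assoc, ← Category.assoc,
      ← Category.assoc (I₃.cocomplex.d n (n + 1)) (I₃.cocomplex.d (n + 1) _),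
      HomologicalComplex.d_comp_d, zero_comp, add_zero, ← Preadditive.add_comp, h, zero_comp]

/-- The middle complex. -/
def mid : CochainComplex C ℕ :=
  CochainComplex.of (fun n => midX S I₁ I₃ n) (midD S hS I₁ I₃) (midD_midD S hS I₁ I₃)

theorem mid_d (n : ℕ) : (mid S hS I₁ I₃).d n (n + 1) = midD S hS I₁ I₃ n :=
  CochainComplex.of_d (fun n => midX S I₁ I₃ n) (midD S hS I₁ I₃) n

/-- The inclusion of `I₁`. -/
def midInl : I₁.cocomplex ⟶ mid S hS I₁ I₃ where
  f n := (biprod.inl : _ ⟶ midX S I₁ I₃ n)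
  comm' i j hij := by
    obtain rfl : i + 1 = j := hij
    rw [mid_d]
    exact inl_midD S hS I₁ I₃ i

/-- The projection to `I₃`. -/
def midSnd : mid S hS I₁ I₃ ⟶ I₃.cocomplex where
  f n := (biprod.snd : midX S I₁ I₃ n ⟶ _)
  comm' i j hij := by
    obtain rfl : i + 1 = j := hij
    rw [mid_d]
    exact (midD_snd S hS I₁ I₃ i).symm

theorem midInl_midSnd : midInl S hS I₁ I₃ ≫ midSnd S hS I₁ I₃ = 0 := by
  ext n
  exact biprod.inl_snd

theorem mid_shortExact :
    (ShortComplex.mk _ _ (midInl_midSnd S hS I₁ I₃)).ShortExact :=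
  HomologicalComplex.shortExact_of_degreewise_shortExact _ fun n =>
    (ShortComplex.Splitting.ofHasBinaryBiproduct (I₁.cocomplex.X n) (I₃.cocomplex.X n)).shortExact

/-- The augmentation of the middle complex. -/
def aug : S.X₂ ⟶ midX S I₁ I₃ 0 := biprod.lift (β S hS I₁) (S.g ≫ (ι₀ I₃))

theorem aug_midD : aug S hS I₁ I₃ ≫ midD S hS I₁ I₃ 0 = 0 := by
  apply biprod.hom_ext
  · rw [zero_comp, Category.assoc, midD_fst, Preadditive.comp_add, aug, biprod.lift_fst_assoc,
      biprod.lift_snd_assoc, Category.assoc, ι_τ, Preadditive.comp_neg, g_γ, add_neg_cancel]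
  · rw [zero_comp, Category.assoc, midD_snd, aug, biprod.lift_snd_assoc, Category.assoc,
      ι_d I₃, comp_zero]

theorem mono_aug : Mono (aug S hS I₁ I₃) := by
  haveI := hS.mono_f
  rw [Preadditive.mono_iff_cancel_zero]
  intro A y hy
  have h3 : y ≫ S.g = 0 := by
    have := hy =≫ biprod.snd
    rw [zero_comp, Category.assoc, aug, biprod.lift_snd, ← Category.assoc] at this
    exact zero_of_comp_mono _ this
  have hy' : hS.exact.lift y h3 ≫ S.f = y := hS.exact.lift_f y h3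
  have h1 : hS.exact.lift y h3 = 0 := by
    have := hy =≫ biprod.fst
    rw [zero_comp, Category.assoc, aug, biprod.lift_fst, ← hy', Category.assoc, f_β] at this
    exact zero_of_comp_mono _ this
  rw [← hy', h1, zero_comp]

theorem exact_aug : (ShortComplex.mk _ _ (aug_midD S hS I₁ I₃)).Exact := by
  haveI := hS.epi_g
  rw [ShortComplex.exact_iff_exact_up_to_refinements]
  intro A x hx
  change x ≫ midD S hS I₁ I₃ 0 = 0 at hx
  have hv : (x ≫ biprod.snd) ≫ I₃.cocomplex.d 0 1 = 0 := by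
    rw [Category.assoc, ← midD_snd S hS I₁ I₃ 0, ← Category.assoc, hx, zero_comp]
  let x₃ : A ⟶ S.X₃ := (RDer.resIsLimitKernelFork I₃.cocomplex I₃.ι).lift (KernelFork.ofι _ hv)
  have hx₃ : x₃ ≫ (ι₀ I₃) = x ≫ biprod.snd :=
    Fork.IsLimit.lift_ι (RDer.resIsLimitKernelFork I₃.cocomplex I₃.ι)
  obtain ⟨A', π, hπ, x₂, hx₂⟩ := surjective_up_to_refinements_of_epi S.g x₃
  have hu : (π ≫ x ≫ biprod.fst - x₂ ≫ β S hS I₁) ≫ I₁.cocomplex.d 0 1 = 0 := by
    have e : x ≫ biprod.fst ≫ I₁.cocomplex.d 0 1 + x ≫ biprod.snd ≫ τ S hS I₁ I₃ 0 = 0 := by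
      rw [← Preadditive.comp_add, ← midD_fst, ← Category.assoc, hx, zero_comp]
    rw [Preadditive.sub_comp, Category.assoc, Category.assoc, Category.assoc, ← g_γ,
      eq_neg_of_add_eq_zero_left e, ← Category.assoc x, ← hx₃, Category.assoc x₃, ι_τ,
      ← Category.assoc]
    simp only [Preadditive.comp_neg, neg_neg, Category.assoc, reassoc_of% hx₂, sub_self]
  let x₁ : A' ⟶ S.X₁ := (RDer.resIsLimitKernelFork I₁.cocomplex I₁.ι).lift (KernelFork.ofι _ hu)
  have hx₁ : x₁ ≫ (ι₀ I₁) = π ≫ x ≫ biprod.fst - x₂ ≫ β S hS I₁ :=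
    Fork.IsLimit.lift_ι (RDer.resIsLimitKernelFork I₁.cocomplex I₁.ι)
  refine ⟨A', π, hπ, x₁ ≫ S.f + x₂, ?_⟩
  show π ≫ x = (x₁ ≫ S.f + x₂) ≫ aug S hS I₁ I₃
  apply biprod.hom_ext
  · simp only [aug, Category.assoc, biprod.lift_fst, Preadditive.add_comp, f_β, hx₁,
      sub_add_cancel]
  · simp only [aug, Category.assoc, biprod.lift_snd, Preadditive.add_comp, S.zero_assoc, zero_comp,
      comp_zero, zero_add, ← reassoc_of% hx₂, hx₃]

/-- The augmentation as a cochain map. -/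
def midι : (CochainComplex.single₀ C).obj S.X₂ ⟶ mid S hS I₁ I₃ :=
  (CochainComplex.fromSingle₀Equiv _ _).symm ⟨aug S hS I₁ I₃, by
    rw [mid_d]; exact aug_midD S hS I₁ I₃⟩

theorem midι_f_zero : (midι S hS I₁ I₃).f 0 = aug S hS I₁ I₃ :=
  CochainComplex.fromSingle₀Equiv_symm_apply_f_zero (C := mid S hS I₁ I₃) _ _

theorem f_aug : ι₀ I₁ ≫ biprod.inl = S.f ≫ aug S hS I₁ I₃ := by
  apply biprod.hom_ext
  · simp [aug, f_β]
  · simp [aug, S.zero_assoc]

theorem quasiIso_midι : QuasiIso (midι S hS I₁ I₃) := ⟨fun n => by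
  cases n with
  | zero =>
    rw [CochainComplex.quasiIsoAt₀_iff, ShortComplex.quasiIso_iff_of_zeros]
    · refine (ShortComplex.exact_and_mono_f_iff_of_iso ?_).2
        ⟨exact_aug S hS I₁ I₃, mono_aug S hS I₁ I₃⟩
      refine ShortComplex.isoMk (Iso.refl _) (Iso.refl _) (Iso.refl _) ?_ ?_
      · simp [midι]
        exact (Category.id_comp _).trans (Category.comp_id _).symm
      · exact (Category.id_comp _).trans ((mid_d S hS I₁ I₃ 0).symm.trans (Category.comp_id _).symm)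
    all_goals rfl
  | succ n =>
    rw [quasiIsoAt_iff_exactAt]
    · exact (mid_shortExact S hS I₁ I₃).exactAt_X₂ (n + 1)
        (I₁.cocomplex_exactAt_succ n) (I₃.cocomplex_exactAt_succ n)
    · exact CochainComplex.exactAt_succ_single_obj _ _⟩

/-- The horseshoe resolution. -/
def horseshoe : RDer.SESRes S where
  I₁ := I₁
  I₂ :=
    { cocomplex := mid S hS I₁ I₃
      injective := fun n => inferInstanceAs (Injective (midX S I₁ I₃ n))
      ι := midι S hS I₁ I₃
      quasiIso := quasiIso_midι S hS I₁ I₃ }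
  I₃ := I₃
  f := midInl S hS I₁ I₃
  g := midSnd S hS I₁ I₃
  zero := midInl_midSnd S hS I₁ I₃
  ι_f := by
    apply HomologicalComplex.from_single_hom_ext
    simp only [HomologicalComplex.comp_f, CochainComplex.single₀_map_f_zero, midι_f_zero]
    exact f_aug S hS I₁ I₃
  ι_g := by
    apply HomologicalComplex.from_single_hom_ext
    simp only [HomologicalComplex.comp_f, CochainComplex.single₀_map_f_zero, midι_f_zero]
    exact biprod.lift_snd _ _
  shortExact := mid_shortExact S hS I₁ I₃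

end Groth.RDerLib
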