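import Groth.Agent.RDerLib.Natural
import Groth.Agent.RDerLib.Horseshoe

/-!
The long exact sequence of right derived functors (`RDer.DerivedLES`).
-/

universe v u v' u'

open CategoryTheory CategoryTheory.Limits HomologicalComplex

set_option linter.unusedSectionVars false
set_option linter.style.haveILetI false

noncomputable section

namespace Groth.RDerLib

variable {C : Type u} [Category.{v} C] [Abelian C] [HasInjectiveResolutions C]
  {D : Type u'} [Category.{v'} D] [Abelian D] (F : C ⥤ D) [F.Additive]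

/-- A chosen resolution of a short exact sequence. -/
def res (S : ShortComplex C) (hS : S.ShortExact) : RDer.SESRes S :=
  horseshoe S hS (injectiveResolution S.X₁) (injectiveResolution S.X₃)

/-- The connecting morphism of the chosen resolution. -/
def resδ (S : ShortComplex C) (hS : S.ShortExact) (n₀ n₁ : ℕ) (h : n₀ + 1 = n₁) :
    (F.rightDerived n₀).obj S.X₃ ⟶ (F.rightDerived n₁).obj S.X₁ :=
  (res S hS).delta F n₀ n₁ h

theorem f_comp (S : ShortComplex C) (T : RDer.SESRes S) (n : ℕ) :
    (F.rightDerived n).map S.f ≫ (T.I₂.isoRightDerivedObj F n).hom =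
      (T.I₁.isoRightDerivedObj F n).hom ≫
        homologyMap ((F.mapHomologicalComplex (ComplexShape.up ℕ)).map T.f) n :=
  InjectiveResolution.isoRightDerivedObj_hom_naturality S.f T.I₁ T.I₂ T.f (by
    rw [← HomologicalComplex.comp_f, T.ι_f, HomologicalComplex.comp_f,
      CochainComplex.single₀_map_f_zero]
    rfl) F n

theorem g_comp (S : ShortComplex C) (T : RDer.SESRes S) (n : ℕ) :
    (F.rightDerived n).map S.g ≫ (T.I₃.isoRightDerivedObj F n).hom =
      (T.I₂.isoRightDerivedObj F n).hom ≫
        homologyMap ((F.mapHomologicalComplex (ComplexShape.up ℕ)).map T.g) n :=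
  InjectiveResolution.isoRightDerivedObj_hom_naturality S.g T.I₂ T.I₃ T.g (by
    rw [← HomologicalComplex.comp_f, T.ι_g, HomologicalComplex.comp_f,
      CochainComplex.single₀_map_f_zero]
    rfl) F n

theorem exists_derivedLES : Nonempty (RDer.DerivedLES F) := by
  have comp_δ : ∀ (S : ShortComplex C) (hS : S.ShortExact) (n₀ n₁ : ℕ) (h : n₀ + 1 = n₁),
      (F.rightDerived n₀).map S.g ≫ resδ F S hS n₀ n₁ h = 0 := by
    intro S hS n₀ n₁ h
    refine (cancel_mono ((res S hS).I₁.isoRightDerivedObj F n₁).hom).1 ?_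
    rw [Category.assoc, resδ, RDer.SESRes.delta_comp_isoRightDerivedObj_hom, zero_comp]
    refine (Category.assoc _ _ _).symm.trans ?_
    refine (congrArg (· ≫ ((res S hS).map_shortExact F).δ n₀ n₁ h) (g_comp F S (res S hS) n₀)).trans ?_
    refine (Category.assoc _ _ _).trans ?_
    refine (congrArg (((res S hS).I₂.isoRightDerivedObj F n₀).hom ≫ ·)
      (((res S hS).map_shortExact F).comp_δ n₀ n₁ h)).trans ?_
    exact comp_zero
  have δ_comp : ∀ (S : ShortComplex C) (hS : S.ShortExact) (n₀ n₁ : ℕ) (h : n₀ + 1 = n₁),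
      resδ F S hS n₀ n₁ h ≫ (F.rightDerived n₁).map S.f = 0 := by
    intro S hS n₀ n₁ h
    refine (cancel_mono ((res S hS).I₂.isoRightDerivedObj F n₁).hom).1 ?_
    rw [Category.assoc, f_comp, zero_comp]
    refine (Category.assoc _ _ _).symm.trans ?_
    refine (congrArg (· ≫ _) ((res S hS).delta_comp_isoRightDerivedObj_hom F n₀ n₁ h)).trans ?_
    refine (Category.assoc _ _ _).trans ?_
    refine (congrArg (((res S hS).I₃.isoRightDerivedObj F n₀).hom ≫ ·)
      (((res S hS).map_shortExact F).δ_comp n₀ n₁ h)).trans ?_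
    exact comp_zero
  refine ⟨{
    δ := resδ F
    δ_eq := fun S hS T n₀ n₁ h => delta_unique F (res S hS) T n₀ n₁ h
    δ_natural := fun hS hS' φ n₀ n₁ h => delta_natural F (res _ hS) (res _ hS') φ n₀ n₁ h
    exact₂ := fun S hS n => ?_
    comp_δ := comp_δ
    exact₃ := fun S hS n₀ n₁ h => ?_
    δ_comp := δ_comp
    exact₁ := fun S hS n₀ n₁ h => ?_ }⟩
  · refine ShortComplex.exact_of_iso
      (ShortComplex.isoMk ((res S hS).I₁.isoRightDerivedObj F n).symm
        ((res S hS).I₂.isoRightDerivedObj F n).symm ((res S hS).I₃.isoRightDerivedObj F n).symm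
        ?_ ?_) (((res S hS).map_shortExact F).homology_exact₂ n)
    · exact (Iso.inv_comp_eq _).2 (((Iso.eq_comp_inv _).2 (f_comp F S (res S hS) n)).trans (Category.assoc _ _ _))
    · exact (Iso.inv_comp_eq _).2 (((Iso.eq_comp_inv _).2 (g_comp F S (res S hS) n)).trans (Category.assoc _ _ _))
  · refine ShortComplex.exact_of_iso
      (ShortComplex.isoMk ((res S hS).I₂.isoRightDerivedObj F n₀).symm
        ((res S hS).I₃.isoRightDerivedObj F n₀).symm ((res S hS).I₁.isoRightDerivedObj F n₁).symm
        ?_ ?_) (((res S hS).map_shortExact F).homology_exact₃ n₀ n₁ h)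
    · exact (Iso.inv_comp_eq _).2 (((Iso.eq_comp_inv _).2 (g_comp F S (res S hS) n₀)).trans (Category.assoc _ _ _))
    · exact (Iso.inv_comp_eq _).2 (((Iso.eq_comp_inv _).2 ((res S hS).delta_comp_isoRightDerivedObj_hom F n₀ n₁ h)).trans (Category.assoc _ _ _))
  · refine ShortComplex.exact_of_iso
      (ShortComplex.isoMk ((res S hS).I₃.isoRightDerivedObj F n₀).symm
        ((res S hS).I₁.isoRightDerivedObj F n₁).symm ((res S hS).I₂.isoRightDerivedObj F n₁).symm
        ?_ ?_) (((res S hS).map_shortExact F).homology_exact₁ n₀ n₁ h)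
    · exact (Iso.inv_comp_eq _).2 (((Iso.eq_comp_inv _).2 ((res S hS).delta_comp_isoRightDerivedObj_hom F n₀ n₁ h)).trans (Category.assoc _ _ _))
    · exact (Iso.inv_comp_eq _).2 (((Iso.eq_comp_inv _).2 (f_comp F S (res S hS) n₁)).trans (Category.assoc _ _ _))

end Groth.RDerLib
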