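import Groth.Prelude.Def_RDer
import Groth.Prelude.Def_RDerDelta
import Mathlib

/-!
Morphisms of short exact sequences lift to morphisms of their injective resolutions; the connecting
morphism of right derived functors is natural and independent of the resolution.
-/

universe v u v' u'

open CategoryTheory CategoryTheory.Limits HomologicalComplex

set_option linter.unusedSectionVars false
set_option linter.style.haveILetI false

noncomputable section

namespace Groth.RDerLib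

variable {C : Type u} [Category.{v} C] [Abelian C] {S S' : ShortComplex C}

/-- The null-homotopic map of a family of arrows vanishes on degree `0` cocycles of degree `0`. -/
theorem comp_nullHomotopicMap_f_zero {K L : CochainComplex C ℕ} {X : C} (x : X ⟶ K.X 0)
    (hx : x ≫ K.d 0 1 = 0) (k : ∀ i j, K.X i ⟶ L.X j) :
    x ≫ (Homotopy.nullHomotopicMap k).f 0 = 0 := by
  have h1 : (dNext 0) k = K.d 0 1 ≫ k 1 0 := dNext_eq k (by simp)
  have h2 : (prevD 0) k = k 0 0 ≫ L.d 0 0 := by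
    simp [prevD, CochainComplex.prev]
  show x ≫ ((dNext 0) k + (prevD 0) k) = 0
  rw [Preadditive.comp_add, h1, h2, L.shape 0 0 (by simp), comp_zero, comp_zero, add_zero,
    ← Category.assoc, hx, zero_comp]

theorem exists_lift (T : RDer.SESRes S) (T' : RDer.SESRes S') (φ : S ⟶ S') :
    ∃ Φ : T.cx ⟶ T'.cx, T.I₁.ι.f 0 ≫ Φ.τ₁.f 0 = φ.τ₁ ≫ T'.I₁.ι.f 0 ∧
      T.I₃.ι.f 0 ≫ Φ.τ₃.f 0 = φ.τ₃ ≫ T'.I₃.ι.f 0 := by
  let a := InjectiveResolution.desc φ.τ₁ T'.I₁ T.I₁
  let b₀ := InjectiveResolution.desc φ.τ₂ T'.I₂ T.I₂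
  have hg : Epi S.g := by
    have h3 : Epi T.g := T.shortExact.epi_g
    -- `X₂ ⟶ X₃` is the map on `H⁰`
    have hq : QuasiIsoAt T.I₁.ι 1 := inferInstance
    have hz : IsZero (T.I₁.cocomplex.homology 1) :=
      ((exactAt_iff_isZero_homology _ _).1 (T.I₁.cocomplex_exactAt_succ 0))
    have hepi : Epi (homologyMap T.g 0) := by
      refine (ShortComplex.exact_iff_epi _ ?_).1 (T.shortExact.homology_exact₃ 0 1 rfl)
      exact hz.eq_of_tgt _ _
    have h1 : homologyMap T.I₂.ι 0 ≫ homologyMap T.g 0 =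
        homologyMap ((CochainComplex.single₀ C).map S.g) 0 ≫ homologyMap T.I₃.ι 0 := by
      rw [← homologyMap_comp, ← homologyMap_comp, T.ι_g]
    have h2 : Epi (homologyMap ((CochainComplex.single₀ C).map S.g) 0 ≫ homologyMap T.I₃.ι 0) := by
      rw [← h1]; infer_instance
    have h4 : Epi (homologyMap ((CochainComplex.single₀ C).map S.g) 0) := by
      have := epi_comp (homologyMap ((CochainComplex.single₀ C).map S.g) 0 ≫ homologyMap T.I₃.ι 0)
        (inv (homologyMap T.I₃.ι 0))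
      simpa using this
    have h5 := (HomologicalComplex.homologyFunctorSingleIso C (ComplexShape.up ℕ) 0).hom.naturality S.g
    have h6 : S.g = (HomologicalComplex.homologyFunctorSingleIso C (ComplexShape.up ℕ) 0).inv.app S.X₂ ≫
        homologyMap ((CochainComplex.single₀ C).map S.g) 0 ≫
        (HomologicalComplex.homologyFunctorSingleIso C (ComplexShape.up ℕ) 0).hom.app S.X₃ := by
      erw [h5]
      simp
    rw [h6]
    exact epi_comp' (@IsIso.epi_of_iso _ _ _ _ _
      ((HomologicalComplex.homologyFunctorSingleIso C (ComplexShape.up ℕ) 0).app S.X₂).symm.isIso_hom) (epi_comp' h4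
      (@IsIso.epi_of_iso _ _ _ _ _
      ((HomologicalComplex.homologyFunctorSingleIso C (ComplexShape.up ℕ) 0).app S.X₃).isIso_hom))
  obtain ⟨H⟩ : Nonempty (Homotopy (T.f ≫ b₀) (a ≫ T'.f)) := by
    refine ⟨InjectiveResolution.descHomotopy (S.f ≫ φ.τ₂) _ _ ?_ ?_⟩
    · rw [← Category.assoc, T.ι_f, Category.assoc, InjectiveResolution.desc_commutes,
        ← Category.assoc, ← Functor.map_comp]
    · rw [← Category.assoc, InjectiveResolution.desc_commutes, Category.assoc, T'.ι_f,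
        ← Category.assoc, ← Functor.map_comp, ← φ.comm₁₂]
  let k : ∀ i j, T.I₂.cocomplex.X i ⟶ T'.I₂.cocomplex.X j := fun i j => (T.splitting i).r ≫ H.hom i j
  let b := b₀ - Homotopy.nullHomotopicMap k
  have hfb : T.f ≫ b = a ≫ T'.f := by
    have hk : (fun i j => T.f.f i ≫ k i j) = H.hom := by
      funext i j
      show T.f.f i ≫ (T.splitting i).r ≫ H.hom i j = H.hom i j
      rw [← Category.assoc]
      exact (congrArg (· ≫ H.hom i j) (T.splitting i).f_r).trans (Category.id_comp _)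
    rw [Preadditive.comp_sub, Homotopy.comp_nullHomotopicMap, hk, sub_eq_iff_eq_add]
    ext n
    exact (H.comm n).trans (add_comm _ _)
  have hbg : T.f ≫ b ≫ T'.g = 0 := by
    rw [reassoc_of% hfb, T'.zero, comp_zero]
  haveI := T.shortExact.epi_g
  let c : T.I₃.cocomplex ⟶ T'.I₃.cocomplex :=
    T.shortExact.gIsCokernel.desc (CokernelCofork.ofπ (b ≫ T'.g) hbg)
  have hc : T.g ≫ c = b ≫ T'.g := Cofork.IsColimit.π_desc T.shortExact.gIsCokernel
  refine ⟨{ τ₁ := a, τ₂ := b, τ₃ := c, comm₁₂ := hfb.symm, comm₂₃ := hc.symm }, ?_, ?_⟩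
  · exact InjectiveResolution.desc_commutes_zero φ.τ₁ T'.I₁ T.I₁
  · show T.I₃.ι.f 0 ≫ c.f 0 = φ.τ₃ ≫ T'.I₃.ι.f 0
    have e1 : T.I₂.ι.f 0 ≫ T.g.f 0 = S.g ≫ T.I₃.ι.f 0 := by
      rw [← HomologicalComplex.comp_f, T.ι_g, HomologicalComplex.comp_f,
        CochainComplex.single₀_map_f_zero]
      rfl
    have e2 : T'.I₂.ι.f 0 ≫ T'.g.f 0 = S'.g ≫ T'.I₃.ι.f 0 := by
      rw [← HomologicalComplex.comp_f, T'.ι_g, HomologicalComplex.comp_f,
        CochainComplex.single₀_map_f_zero]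
      rfl
    have e3 : T.I₂.ι.f 0 ≫ b.f 0 = φ.τ₂ ≫ T'.I₂.ι.f 0 := by
      simp only [b, HomologicalComplex.sub_f_apply, Preadditive.comp_sub]
      erw [comp_nullHomotopicMap_f_zero (T.I₂.ι.f 0) (RDer.res_ι_d _ T.I₂.ι) k]
      rw [sub_zero]
      exact InjectiveResolution.desc_commutes_zero φ.τ₂ T'.I₂ T.I₂
    refine (cancel_epi S.g).1 ?_
    have s1 : T.I₂.ι.f 0 ≫ T.g.f 0 ≫ c.f 0 = T.I₂.ι.f 0 ≫ b.f 0 ≫ T'.g.f 0 := by
      rw [← HomologicalComplex.comp_f, hc, HomologicalComplex.comp_f]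
    refine (Category.assoc _ _ _).symm.trans ?_
    refine (congrArg (· ≫ c.f 0) e1.symm).trans ?_
    refine (Category.assoc _ _ _).trans (s1.trans ?_)
    refine (Category.assoc _ _ _).symm.trans ((congrArg (· ≫ T'.g.f 0) e3).trans ?_)
    refine (Category.assoc _ _ _).trans ((congrArg (φ.τ₂ ≫ ·) e2).trans ?_)
    exact (Category.assoc _ _ _).symm.trans ((congrArg (· ≫ T'.I₃.ι.f 0) φ.comm₂₃).trans
      (Category.assoc _ _ _))

variable [HasInjectiveResolutions C] {D : Type u'} [Category.{v'} D] [Abelian D]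

theorem delta_natural (F : C ⥤ D) [F.Additive] (T : RDer.SESRes S) (T' : RDer.SESRes S')
    (φ : S ⟶ S') (n₀ n₁ : ℕ) (h : n₀ + 1 = n₁) :
    (F.rightDerived n₀).map φ.τ₃ ≫ T'.delta F n₀ n₁ h =
      T.delta F n₀ n₁ h ≫ (F.rightDerived n₁).map φ.τ₁ := by
  obtain ⟨Φ, h₁, h₃⟩ := exists_lift T T' φ
  rw [← cancel_mono (T'.I₁.isoRightDerivedObj F n₁).hom, Category.assoc, Category.assoc,
    RDer.SESRes.delta_comp_isoRightDerivedObj_hom,
    InjectiveResolution.isoRightDerivedObj_hom_naturality φ.τ₁ T.I₁ T'.I₁ Φ.τ₁ h₁,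
    ← Category.assoc (T.delta F n₀ n₁ h), RDer.SESRes.delta_comp_isoRightDerivedObj_hom]
  refine (Category.assoc _ _ _).symm.trans ?_
  refine (congrArg (· ≫ (T'.map_shortExact F).δ n₀ n₁ h)
    (InjectiveResolution.isoRightDerivedObj_hom_naturality φ.τ₃ T.I₃ T'.I₃ Φ.τ₃ h₃ F n₀)).trans ?_
  refine (Category.assoc _ _ _).trans (Eq.trans ?_ (Category.assoc _ _ _).symm)
  exact congrArg ((T.I₃.isoRightDerivedObj F n₀).hom ≫ ·)
    (HomologicalComplex.HomologySequence.δ_naturality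
      ((F.mapHomologicalComplex (ComplexShape.up ℕ)).mapShortComplex.map Φ)
      (T.map_shortExact F) (T'.map_shortExact F) n₀ n₁ h).symm

theorem delta_unique (F : C ⥤ D) [F.Additive] (T T' : RDer.SESRes S) (n₀ n₁ : ℕ)
    (h : n₀ + 1 = n₁) : T.delta F n₀ n₁ h = T'.delta F n₀ n₁ h := by
  simpa using (delta_natural F T T' (𝟙 S) n₀ n₁ h).symm

end Groth.RDerLib
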